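import Groth.Prelude.Def_Exal
import Mathlib.Algebra.Module.SpanRank
import Mathlib.RingTheory.MvPolynomial.Ideal
import Mathlib.RingTheory.Nakayama
import Mathlib.RingTheory.Finiteness.Nakayama
import Mathlib.RingTheory.Artinian.Ring
import Mathlib.RingTheory.HopkinsLevitzki
import Mathlib.RingTheory.Polynomial.Basic
import Mathlib.RingTheory.LocalRing.ResidueField.Basic

noncomputable section

universe u

open IsLocalRing MvPolynomial

namespace Groth.Agent.ExNonzero

theorem exists_nontrivial {k : Type u} [Field k] {A : Type u} [CommRing A] [Algebra k A] [IsLocalRing A]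
    [IsArtinianRing A] (hres : ∀ a : A, ∃ c : k, a - algebraMap k A c ∈ maximalIdeal A)
    (hA : maximalIdeal A ≠ ⊥) :
    ∃ X : Exal.Ext k A (ResidueField A), ¬ X.IsTrivial := by
  classical
  let m := maximalIdeal A
  have hmfg : m.FG := (isNoetherianRing_iff_ideal_fg A).1 inferInstance m
  obtain ⟨G, hGcard, hG⟩ := Submodule.FG.exists_span_finset_card_eq_spanFinrank hmfg
  let π : (MvPolynomial G k) →ₐ[k] A := aeval fun g => (g : A)
  let mP : Ideal (MvPolynomial G k) := RingHom.ker (constantCoeff : (MvPolynomial G k) →+* k)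
  let θ : k →+* ResidueField A := algebraMap k (ResidueField A)
  have hGm : ∀ g : G, (g : A) ∈ m := fun g => hG.le (Submodule.subset_span g.2)
  have hconst : ∀ p : (MvPolynomial G k), residue A (π p) = θ (constantCoeff p) := by
    have : (residue A).comp π.toRingHom = θ.comp constantCoeff := by
      refine MvPolynomial.ringHom_ext (fun c => ?_) (fun g => ?_)
      · simp [π, θ, IsScalarTower.algebraMap_apply k A (ResidueField A)]
      · simpa [π, m] using hGm g
    exact fun p => RingHom.congr_fun this p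
  have hθsurj : Function.Surjective θ := by
    intro x
    obtain ⟨a, rfl⟩ := residue_surjective x
    obtain ⟨c, hc⟩ := hres a
    refine ⟨c, ?_⟩
    have h0 : residue A (a - algebraMap k A c) = 0 := (residue_eq_zero_iff _).2 hc
    rw [map_sub, sub_eq_zero] at h0
    exact h0.symm
  have hπm : ∀ p ∈ mP, π p ∈ m := fun p hp => by
    rw [← residue_eq_zero_iff, hconst, RingHom.mem_ker.1 hp, map_zero]
  -- surjectivity
  have hstep : ∀ j : ℕ, ∀ x ∈ m ^ j, ∃ p ∈ mP ^ j, x - π p ∈ m ^ (j + 1) := by
    have h1 : ∀ x ∈ m, ∃ p ∈ mP, x - π p ∈ m ^ 2 := by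
      intro x hx
      rw [← hG] at hx
      induction hx using Submodule.span_induction with
      | mem v hv =>
        exact ⟨X ⟨v, hv⟩, by simp [mP, RingHom.mem_ker], by simp [π]⟩
      | zero => exact ⟨0, zero_mem _, by simp⟩
      | add a b _ _ ha hb =>
        obtain ⟨p, hp, hpa⟩ := ha
        obtain ⟨q, hq, hqb⟩ := hb
        exact ⟨p + q, add_mem hp hq, by rw [map_add, add_sub_add_comm]; exact add_mem hpa hqb⟩
      | smul r a ha' ha =>
        obtain ⟨p, hp, hpa⟩ := ha
        obtain ⟨c, hc⟩ := hres r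
        refine ⟨C c * p, mP.mul_mem_left _ hp, ?_⟩
        have : r • a - π (C c * p) = (r - algebraMap k A c) * a + algebraMap k A c * (a - π p) := by
          simp [π]; ring
        rw [this, pow_two]
        exact add_mem (Ideal.mul_mem_mul hc (hG.le ha')) (Ideal.mul_mem_left _ _ (by rw [← pow_two]; exact hpa))
    intro j
    induction j with
    | zero =>
      intro x _
      obtain ⟨c, hc⟩ := hres x
      exact ⟨C c, by simp, by rw [zero_add, pow_one, show π (C c) = algebraMap k A c from aeval_C _ c]; exact hc⟩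
    | succ j ih =>
      intro x hx
      rw [pow_succ] at hx
      refine Submodule.mul_induction_on hx (fun y hy z hz => ?_) (fun a b ha hb => ?_)
      · obtain ⟨p, hp, hpy⟩ := ih y hy
        obtain ⟨q, hq, hqz⟩ := h1 z hz
        refine ⟨p * q, by rw [pow_succ]; exact Ideal.mul_mem_mul hp hq, ?_⟩
        have : y * z - π (p * q) = (y - π p) * z + π p * (z - π q) := by rw [map_mul]; ring
        rw [this]
        refine add_mem (by rw [pow_succ]; exact Ideal.mul_mem_mul hpy hz) ?_
        have hpm : π p ∈ m ^ j := by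
          have h' := Ideal.mem_map_of_mem π.toRingHom hp
          rw [Ideal.map_pow] at h'
          have hle : mP.map π.toRingHom ≤ m := (Ideal.map_le_iff_le_comap).2 fun t ht => hπm t ht
          exact Ideal.pow_right_mono hle j h'
        have := Ideal.mul_mem_mul hpm hqz
        rwa [← pow_add, show j + 2 = j + 1 + 1 by omega] at this
      · obtain ⟨p, hp, hpa⟩ := ha
        obtain ⟨q, hq, hqb⟩ := hb
        exact ⟨p + q, add_mem hp hq, by rw [map_add, add_sub_add_comm]; exact add_mem hpa hqb⟩
  have hπ : Function.Surjective π := by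
    obtain ⟨N, hN⟩ : IsNilpotent m := by
      have h := IsArtinianRing.isNilpotent_jacobson_bot (R := A)
      rwa [IsLocalRing.jacobson_eq_maximalIdeal ⊥ bot_ne_top] at h
    have key : ∀ j x, ∃ p, x - π p ∈ m ^ j := by
      intro j
      induction j with
      | zero => intro x; exact ⟨0, by simp⟩
      | succ j ih =>
        intro x
        obtain ⟨p, hp⟩ := ih x
        obtain ⟨q, -, hq⟩ := hstep j _ hp
        exact ⟨p + q, by rwa [map_add, ← sub_sub]⟩
    intro x
    obtain ⟨p, hp⟩ := key N x
    rw [hN] at hp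
    exact ⟨p, (sub_eq_zero.1 hp).symm⟩
  let I : Ideal (MvPolynomial G k) := RingHom.ker π
  have hI : I ≤ mP := fun p hp => by
    have := hconst p
    rw [RingHom.mem_ker.1 hp, map_zero] at this
    exact θ.injective (this.symm.trans (map_zero θ).symm)
  have hI2 : I ≤ mP * mP := by
    intro p hp
    have hp' : p ∈ Ideal.span (Set.range (X : G → (MvPolynomial G k))) := by
      have h0 : constantCoeff p = 0 := hI hp
      rw [← Set.image_univ, mem_ideal_span_X_image]
      intro d hd
      by_contra hcon
      push Not at hcon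
      obtain rfl : d = 0 := Finsupp.ext fun i => hcon i trivial
      exact (MvPolynomial.mem_support_iff.1 hd) h0
    obtain ⟨q, hq⟩ := Ideal.mem_span_range_iff_exists_fun.1 hp'
    have hdec : p - ∑ g, C (constantCoeff (q g)) * X g ∈ mP * mP := by
      rw [← hq, ← Finset.sum_sub_distrib]
      refine sum_mem fun g _ => ?_
      rw [← sub_mul]
      exact Ideal.mul_mem_mul (RingHom.mem_ker.2 (by rw [map_sub, constantCoeff_C, sub_self])) (RingHom.mem_ker.2 (constantCoeff_X _ _))
    suffices ∀ g, constantCoeff (q g) = 0 by simpa [this] using hdec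
    by_contra hne
    push_neg at hne
    obtain ⟨g₀, hg₀⟩ := hne
    have hmem : ∑ g, algebraMap k A (constantCoeff (q g)) * (g : A) ∈ m • m := by
      have h2 : π (p - ∑ g, C (constantCoeff (q g)) * X g) ∈ m • m := by
        refine Submodule.mul_induction_on hdec (fun a ha b hb => ?_) (fun a b ha hb => ?_)
        · rw [map_mul, smul_eq_mul]
          exact Ideal.mul_mem_mul (hπm a ha) (hπm b hb)
        · rw [map_add]
          exact add_mem ha hb
      rw [map_sub, RingHom.mem_ker.1 hp, zero_sub, neg_mem_iff] at h2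
      simpa [π, aeval_C, aeval_X] using h2
    let S : Set A := ↑(G.erase (g₀ : A))
    have hle : m ≤ Submodule.span A S ⊔ m • m := by
      conv_lhs => rw [← hG]
      rw [Submodule.span_le]
      intro v hv
      by_cases hv0 : v = (g₀ : A)
      · subst hv0
        rw [← Finset.add_sum_erase _ _ (Finset.mem_univ g₀)] at hmem
        have hu : algebraMap k A (constantCoeff (q g₀)) * (g₀ : A) ∈ Submodule.span A S ⊔ m • m := by
          have hsum : ∑ g ∈ Finset.univ.erase g₀, algebraMap k A (constantCoeff (q g)) * (g : A) ∈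
              Submodule.span A S := by
            refine sum_mem fun g hg => ?_
            exact Submodule.smul_mem _ _ (Submodule.subset_span
              (Finset.mem_erase.2 ⟨fun h => (Finset.mem_erase.1 hg).1 (Subtype.ext h), g.2⟩))
          have := sub_mem (Submodule.mem_sup_right (S := Submodule.span A S) hmem) (Submodule.mem_sup_left hsum)
          simpa using this
        have := Submodule.smul_mem _ (algebraMap k A (constantCoeff (q g₀))⁻¹) hu
        simp only [smul_eq_mul] at this ⊢
        rwa [← mul_assoc, ← map_mul (algebraMap k A), inv_mul_cancel₀ hg₀, map_one, one_mul] at this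
      · exact Submodule.mem_sup_left (Submodule.subset_span (Finset.mem_erase.2 ⟨hv0, hv⟩))
    have hle' : m ≤ Submodule.span A S :=
      Submodule.le_of_le_smul_of_le_jacobson_bot hmfg
        (IsLocalRing.jacobson_eq_maximalIdeal ⊥ bot_ne_top).ge hle
    have heq : Submodule.span A S = m :=
      le_antisymm ((Submodule.span_mono (Finset.coe_subset.2 (Finset.erase_subset _ _))).trans hG.le) hle'
    have h3 := Submodule.spanFinrank_span_le_ncard_of_finite (R := A) (G.erase (g₀ : A)).finite_toSet
    rw [show Submodule.span A ↑(G.erase (g₀ : A)) = m from heq, ← hGcard, Set.ncard_coe_finset,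
      Finset.card_erase_of_mem g₀.2] at h3
    have : 0 < G.card := Finset.card_pos.2 ⟨_, g₀.2⟩
    omega
  have hI0 : I ≠ ⊥ := by
    intro h0
    let e := RingEquiv.ofBijective π ⟨(RingHom.injective_iff_ker_eq_bot π.toRingHom).2 h0, hπ⟩
    haveI : IsDomain A := MulEquiv.isDomain (MvPolynomial G k) e.symm.toMulEquiv
    exact hA (IsLocalRing.isField_iff_maximalIdeal_eq.1 (IsArtinianRing.isField_of_isDomain A))
  have hlt : mP * I < I := by
    refine lt_of_le_of_ne Ideal.mul_le_right fun h => hI0 ?_
    obtain ⟨r, hr, hr0⟩ := Submodule.exists_sub_one_mem_and_smul_eq_zero_of_fg_of_le_smul mP I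
      (IsNoetherian.noetherian _) h.ge
    rw [eq_bot_iff]
    intro p hp
    rcases mul_eq_zero.1 (hr0 p hp) with h' | h'
    · exact absurd hr (by simp [h', mP, RingHom.mem_ker])
    · exact h'
  obtain ⟨J, ⟨hJ1, hJ2⟩, hJmax⟩ :=
    set_has_maximal_iff_noetherian.2 inferInstance {J : Ideal (MvPolynomial G k) | mP * I ≤ J ∧ J < I} ⟨_, le_rfl, hlt⟩
  obtain ⟨e, heI, heJ⟩ := SetLike.exists_of_lt hJ2
  have hsub : ∀ p : (MvPolynomial G k), p - C (constantCoeff p) ∈ mP := fun p => RingHom.mem_ker.2 (by rw [map_sub, constantCoeff_C, sub_self])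
  have hspan : I ≤ J ⊔ Ideal.span {e} := by
    by_contra h
    refine hJmax (J ⊔ Ideal.span {e}) ⟨hJ1.trans le_sup_left, lt_of_le_of_ne (sup_le hJ2.le
      ((Ideal.span_singleton_le_iff_mem _).2 heI)) fun he => h he.ge⟩ ?_
    exact lt_of_le_of_ne le_sup_left fun he => heJ (he.ge (Submodule.mem_sup_right (Ideal.mem_span_singleton_self e)))
  let E := (MvPolynomial G k) ⧸ J
  let pr : E →ₐ[k] A := Ideal.Quotient.liftₐ J π fun a ha => hJ2.le ha
  let φ := RingEquiv.ofBijective θ ⟨θ.injective, hθsurj⟩
  let incl : ResidueField A →+ E :=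
    ((Ideal.Quotient.mk J).toAddMonoidHom.comp ((AddMonoidHom.mulRight e).comp (C : k →+* (MvPolynomial G k)).toAddMonoidHom)).comp
      φ.symm.toAddMonoidHom
  have hincl : ∀ c, incl (θ c) = Ideal.Quotient.mk J (C c * e) := fun c => by
    change Ideal.Quotient.mk J (C (φ.symm (φ c)) * e) = _
    rw [RingEquiv.symm_apply_apply]
  have hmulJ : ∀ p i : (MvPolynomial G k), i ∈ I → Ideal.Quotient.mk J (p * i) = Ideal.Quotient.mk J (C (constantCoeff p) * i) :=
    fun p i hi => Ideal.Quotient.eq.2 (by rw [← sub_mul]; exact hJ1 (Ideal.mul_mem_mul (hsub p) hi))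
  refine ⟨{ E := E, proj := pr, incl := incl, isExtension := ⟨?_, ?_, ?_, ?_⟩ }, ?_⟩
  · intro a
    obtain ⟨p, rfl⟩ := hπ a
    exact ⟨Ideal.Quotient.mk J p, rfl⟩
  · rw [injective_iff_map_eq_zero]
    intro z hz
    obtain ⟨c, rfl⟩ := hθsurj z
    by_contra hc
    rw [hincl, Ideal.Quotient.eq_zero_iff_mem] at hz
    have hc0 : c ≠ 0 := fun h => hc (by rw [h, map_zero])
    have := Ideal.mul_mem_left J (C c⁻¹) hz
    rw [← mul_assoc, ← map_mul, inv_mul_cancel₀ hc0, map_one, one_mul] at this
    exact heJ this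
  · intro x
    obtain ⟨p, rfl⟩ := Ideal.Quotient.mk_surjective x
    change π p = 0 ↔ _
    constructor
    · intro hp
      obtain ⟨j, hj, w, hw, hjw⟩ := Submodule.mem_sup.1 (hspan (show p ∈ I from hp))
      obtain ⟨q, rfl⟩ := Ideal.mem_span_singleton'.1 hw
      refine ⟨θ (constantCoeff q), ?_⟩
      rw [hincl, ← hmulJ q e heI, ← hjw, map_add (Ideal.Quotient.mk J), Ideal.Quotient.eq_zero_iff_mem.2 hj, zero_add]
    · rintro ⟨z, hz⟩
      obtain ⟨c, rfl⟩ := hθsurj z
      rw [hincl] at hz
      have := hJ2.le (Ideal.Quotient.eq.1 hz.symm)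
      have h' : π p - π (C c * e) = 0 := by rw [← map_sub]; exact this
      rwa [map_mul, show π e = 0 from heI, mul_zero, sub_zero] at h'
  · intro x z
    obtain ⟨p, rfl⟩ := Ideal.Quotient.mk_surjective x
    obtain ⟨c, rfl⟩ := hθsurj z
    rw [show pr (Ideal.Quotient.mk J p) • θ c = θ (constantCoeff p * c) by
      rw [map_mul, ← hconst]; rfl, hincl, hincl, ← map_mul]
    rw [hmulJ p (C c * e) (I.mul_mem_left _ heI)]
    simp [mul_assoc]
  · rintro ⟨s, hs⟩
    let ψ : (MvPolynomial G k) →ₐ[k] E := s.comp π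
    let mE : Ideal E := mP.map (Ideal.Quotient.mk J)
    let IE : Ideal E := I.map (Ideal.Quotient.mk J)
    have hz : ∀ a ∈ mE, ∀ b ∈ IE, a * b = 0 := by
      intro a ha b hb
      obtain ⟨a', ha', rfl⟩ := (Ideal.mem_map_iff_of_surjective _ Ideal.Quotient.mk_surjective).1 ha
      obtain ⟨b', hb', rfl⟩ := (Ideal.mem_map_iff_of_surjective _ Ideal.Quotient.mk_surjective).1 hb
      rw [← map_mul, Ideal.Quotient.eq_zero_iff_mem]
      exact hJ1 (Ideal.mul_mem_mul ha' hb')
    have hd : ∀ p, ψ p - Ideal.Quotient.mk J p ∈ IE := by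
      intro p
      obtain ⟨w, hw⟩ := Ideal.Quotient.mk_surjective (ψ p - Ideal.Quotient.mk J p)
      rw [← hw]
      refine Ideal.mem_map_of_mem _ ?_
      have h : pr (Ideal.Quotient.mk J w) = 0 := by
        rw [hw, map_sub]
        exact sub_eq_zero.2 (hs (π p))
      exact h
    have hψ : ∀ p ∈ mP * mP, ψ p = Ideal.Quotient.mk J p := by
      intro p hp
      refine Submodule.mul_induction_on hp (fun a ha b hb => ?_) (fun a b ha hb => by simp [map_add, ha, hb])
      have haE : Ideal.Quotient.mk J a ∈ mE := Ideal.mem_map_of_mem _ ha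
      have hbE : Ideal.Quotient.mk J b ∈ mE := Ideal.mem_map_of_mem _ hb
      have hψa : ψ a ∈ mE := by
        have := add_mem (Ideal.map_mono hI (hd a)) haE
        rwa [sub_add_cancel] at this
      rw [map_mul, map_mul, ← sub_eq_zero, show ψ a * ψ b - Ideal.Quotient.mk J a * Ideal.Quotient.mk J b =
        ψ a * (ψ b - Ideal.Quotient.mk J b) + Ideal.Quotient.mk J b * (ψ a - Ideal.Quotient.mk J a) by ring,
        hz _ hψa _ (hd b), hz _ hbE _ (hd a), add_zero]
    have := hψ e (hI2 heI)
    rw [show ψ e = 0 from (congrArg s (heI : π e = 0)).trans (map_zero s)] at this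
    exact heJ (Ideal.Quotient.eq_zero_iff_mem.1 this.symm)

end Groth.Agent.ExNonzero
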